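import Cfsg.Agent.CharDeep.CliffordCorr
import Cfsg.Agent.S0900
import Cfsg.Agent.S0188
import Cfsg.Agent.CharactersDeep.BrauerLocal
import Cfsg.Agent.Characters.Values
import Cfsg.Agent.Characters.Linear

/-!
# Clifford theory for `N ⋊ S`, `N` abelian

`cliff` : if, for every linear character `θ` of `N`, all `S`-conjugates of `w` in the stabilizer of `θ` are conjugate in
it (in the strong form `hU`), then the value `χ(w)` of an irreducible character is `0` or the value of an irreducible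
character of the stabilizer at a conjugate of `w`.
-/

set_option autoImplicit false
set_option linter.unusedSectionVars false

namespace Cfsg.Agent.H215.WB

open Cfsg Cfsg.Agent.Characters.Core
open scoped ComplexConjugate

variable {N S : Type*} [CommGroup N] [Group S] [Finite N] [Finite S] {φ : S →* MulAut N}

/-- the stabilizer of a linear character -/
def stab (φ : S →* MulAut N) (θ : N →* ℂˣ) : Subgroup S where
  carrier := {s | ∀ n, θ (φ s n) = θ n}
  mul_mem' := by
    intro a b ha hb n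
    rw [map_mul, MulAut.mul_apply, ha, hb]
  one_mem' := by
    intro n
    rw [map_one, MulAut.one_apply]
  inv_mem' := by
    intro a ha n
    rw [← ha (φ a⁻¹ n), ← MulAut.mul_apply, ← map_mul, mul_inv_cancel, map_one, MulAut.one_apply]

theorem mem_stab {θ : N →* ℂˣ} {s : S} : s ∈ stab φ θ ↔ ∀ n, θ (φ s n) = θ n := Iff.rfl

/-- Inner products and bijections. -/
theorem classInner_equiv {A : Type*} {B : Type*} [Group A] [Group B] [Fintype A] [Fintype B]
    (e : A ≃ B) (f g : B → ℂ) : classInner (fun a => f (e a)) (fun a => g (e a)) = classInner f g := by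
  rw [classInner_def, classInner_def, Nat.card_congr e]
  congr 1
  exact Fintype.sum_equiv e _ _ fun a => rfl

theorem exists_constituent {G : Type*} [Group G] [Fintype G] (N : Subgroup G) [Fintype N] {χ : G → ℂ}
    (hχ : IsIrrCharacter G χ) : ∃ ψ : IrrCharacter N, classInner (fun n : N => χ n) (ψ : N → ℂ) ≠ 0 := by
  classical
  by_contra hno
  push Not at hno
  have : Finite (IrrCharacter N) := finite_irr
  let _ : Fintype (IrrCharacter N) := Fintype.ofFinite _
  have h1 : IsCharacter N (fun n : N => χ n) :=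
    Characters.Clifford.isCharacter_restrict N (isIrr_isCharacter hχ)
  have h2 := classFunction_eq_sum (isCharacter_isClassFunction h1)
  have h3 := congrFun h2 1
  rw [Finset.sum_apply, Finset.sum_eq_zero (fun ψ _ => by rw [hno ψ, zero_smul]; rfl)] at h3
  exact isIrr_apply_one_ne_zero hχ h3

/-- a normal abelian subgroup acting by multiples of one linear character acts by scalars -/
theorem scalar {T : Type*} [Group T] [Finite T] {ψ : T → ℂ} (hψ : IsIrrCharacter T ψ) {n : T} {c : ℂ} {e : ℕ}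
    (hc : ‖c‖ = 1) (h1 : ψ 1 = e) (hn : ψ n = e * c) (t : T) : ψ (n * t) = c * ψ t := by
  obtain ⟨d, ρ, hρ, rfl⟩ := hψ
  have hd : (Module.finrank ℂ (Fin d → ℂ) : ℂ) = e := by
    rw [← h1, Representation.char_one]
  have hd' : Module.finrank ℂ (Fin d → ℂ) = e := by exact_mod_cast hd
  have he : (e : ℂ) ≠ 0 := by
    have h2 := isIrr_apply_one_ne_zero (⟨d, ρ, hρ, rfl⟩ : IsIrrCharacter T ρ.character)
    rwa [h1] at h2
  have h2 : ‖ρ.character n‖ = (Module.finrank ℂ (Fin d → ℂ) : ℝ) := by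
    rw [hn, norm_mul, hc, mul_one, hd', Complex.norm_natCast]
  obtain ⟨w, hw⟩ := (Characters.Values.norm_character_eq_iff ρ n).1 h2
  have h3 : w = c := by
    have h4 : ρ.character n = w * (Module.finrank ℂ (Fin d → ℂ) : ℂ) := by
      rw [Representation.character, hw, map_smul, LinearMap.trace_id, smul_eq_mul]
    rw [hn, hd, mul_comm] at h4
    exact (mul_right_cancel₀ he h4).symm
  rw [Representation.character, map_mul, hw, h3, ← Module.End.one_eq_id, smul_mul_assoc, one_mul, map_smul, smul_eq_mul]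
  rfl

theorem indFun_eq {G : Type*} [Group G] [Fintype G] (T : Subgroup G) [Fintype T] {ψ : T → ℂ} (hψ : IsClassFunction T ψ)
    {g h : G} (hh : h⁻¹ * g * h ∈ T) (hU : ∀ x, x⁻¹ * g * x ∈ T → h⁻¹ * x ∈ T) :
    indFun T ψ g = ψ ⟨h⁻¹ * g * h, hh⟩ := by
  classical
  unfold indFun
  have h1 : ∑ x : G, extendByZero T ψ (x⁻¹ * g * x) = ∑ x : T, ψ ⟨h⁻¹ * g * h, hh⟩ := by
    rw [← Equiv.sum_comp (Equiv.mulLeft h)]
    have h2 : ∀ y : G, y ∉ T → extendByZero T ψ ((Equiv.mulLeft h y)⁻¹ * g * (Equiv.mulLeft h y)) = 0 := by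
      intro y hy
      refine extendByZero_of_notMem T ψ fun h3 => hy ?_
      have h4 := hU _ h3
      rwa [Equiv.coe_mulLeft, inv_mul_cancel_left] at h4
    have h5 : ∀ y : T, extendByZero T ψ ((Equiv.mulLeft h (y : G))⁻¹ * g * (Equiv.mulLeft h (y : G))) =
        ψ ⟨h⁻¹ * g * h, hh⟩ := by
      intro y
      have h6 : (Equiv.mulLeft h (y : G))⁻¹ * g * (Equiv.mulLeft h (y : G)) = (y : G)⁻¹ * (h⁻¹ * g * h) * y := by
        rw [Equiv.coe_mulLeft, mul_inv_rev]
        group
      rw [h6, extendByZero_of_mem T ψ (T.mul_mem (T.mul_mem (T.inv_mem y.2) hh) y.2)]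
      have h7 := hψ ⟨h⁻¹ * g * h, hh⟩ y⁻¹
      rw [inv_inv] at h7
      rw [← h7]
      rfl
    rw [← Finset.sum_congr rfl fun y (_ : y ∈ (Finset.univ : Finset T)) => h5 y]
    rw [← Finset.sum_subset (Finset.subset_univ (Finset.univ.filter fun y : G => y ∈ T))]
    · exact Finset.sum_bij' (fun y hy => (⟨y, (Finset.mem_filter.1 hy).2⟩ : T)) (fun y _ => (y : G))
        (fun _ _ => Finset.mem_univ _) (fun y _ => Finset.mem_filter.2 ⟨Finset.mem_univ _, y.2⟩) (fun _ _ => rfl)
        (fun _ _ => rfl) (fun _ _ => rfl)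
    · intro y _ hy
      exact h2 y fun h => hy (Finset.mem_filter.2 ⟨Finset.mem_univ _, h⟩)
  rw [h1, Finset.sum_const, Finset.card_univ, ← Nat.card_eq_fintype_card, nsmul_eq_mul, inv_mul_cancel_left₀]
  exact_mod_cast Nat.card_pos.ne'

theorem conj_inl (g : N ⋊[φ] S) (m : N) :
    g * SemidirectProduct.inl m * g⁻¹ = SemidirectProduct.inl (φ g.right m) := by
  refine SemidirectProduct.ext ?_ ?_
  · simp only [SemidirectProduct.mul_left, SemidirectProduct.left_inl, SemidirectProduct.mul_right,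
      SemidirectProduct.right_inl, mul_one, SemidirectProduct.inv_left, ← MulAut.mul_apply, ← map_mul, mul_inv_cancel,
      map_one, MulAut.one_apply]
    rw [mul_comm g.left, mul_assoc, mul_inv_cancel, mul_one]
  · simp

theorem norm_hom (θ : N →* ℂˣ) (n : N) : ‖((θ n : ℂˣ) : ℂ)‖ = 1 := by
  refine Complex.norm_eq_one_of_pow_eq_one (n := Nat.card N) ?_ Nat.card_pos.ne'
  rw [← Units.val_pow_eq_pow_val, ← map_pow, pow_card_eq_one', map_one, Units.val_one]

theorem cliff [Fintype (N ⋊[φ] S)] {χ : N ⋊[φ] S → ℂ} (hχ : IsIrrCharacter (N ⋊[φ] S) χ) (w : S)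
    (hU : ∀ (θ : N →* ℂˣ) (x y : S), x⁻¹ * w * x ∈ stab φ θ → y⁻¹ * w * y ∈ stab φ θ → x⁻¹ * y ∈ stab φ θ)
    (h0 : χ (SemidirectProduct.inr w) ≠ 0) :
    ∃ (θ : N →* ℂˣ) (h : S) (hh : h⁻¹ * w * h ∈ stab φ θ) (ψ : stab φ θ → ℂ),
      IsIrrCharacter (stab φ θ) ψ ∧ χ (SemidirectProduct.inr w) = ψ ⟨h⁻¹ * w * h, hh⟩ := by
  classical
  set K : Subgroup (N ⋊[φ] S) := (SemidirectProduct.inl : N →* N ⋊[φ] S).range with hKdef
  have hKn : K.Normal := by
    rw [hKdef, SemidirectProduct.range_inl_eq_ker_rightHom]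
    infer_instance
  have iN : Fintype N := Fintype.ofFinite N
  have iK : Fintype K := Fintype.ofFinite K
  obtain ⟨ψK, hcon⟩ := exists_constituent K hχ
  have hKc : IsMulCommutative K := by
    refine ⟨⟨?_⟩⟩
    rintro ⟨_, a, rfl⟩ ⟨_, b, rfl⟩
    apply Subtype.ext
    change SemidirectProduct.inl a * SemidirectProduct.inl b = SemidirectProduct.inl b * SemidirectProduct.inl a
    rw [← map_mul, ← map_mul, mul_comm]
  have hone : (ψK : K → ℂ) 1 = 1 := by
    have h1 := Cfsg.Agent.CharactersDeep.BrauerLocal.irr_mul ψK.2 1 1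
    rw [mul_one] at h1
    have h2 := isIrr_apply_one_ne_zero ψK.2
    exact mul_left_cancel₀ h2 (by rw [mul_one]; exact h1.symm)
  obtain ⟨f, hf⟩ := Characters.Linear.exists_hom_of_isIrrCharacter ψK.2 hone
  set θ : N →* ℂˣ := f.comp (SemidirectProduct.inl : N →* N ⋊[φ] S).rangeRestrict with hθ
  have hψK : ∀ n : N, (ψK : K → ℂ) ⟨SemidirectProduct.inl n, ⟨n, rfl⟩⟩ = (θ n : ℂˣ) := fun n => congrFun hf _
  set T : Subgroup (N ⋊[φ] S) := (stab φ θ).comap SemidirectProduct.rightHom with hT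
  have hTm : ∀ g : N ⋊[φ] S, g ∈ T ↔ g.right ∈ stab φ θ := fun g => Iff.rfl
  have iT : Fintype T := Fintype.ofFinite T
  have hTc : ∀ g : N ⋊[φ] S, g ∈ T ↔ ∀ n : K, (ψK : K → ℂ) ⟨g * n * g⁻¹, hKn.conj_mem (n : N ⋊[φ] S) n.2 g⟩ =
      (ψK : K → ℂ) n := by
    intro g
    have h1 : ∀ m : N, (ψK : K → ℂ) ⟨g * (⟨SemidirectProduct.inl m, ⟨m, rfl⟩⟩ : K) * g⁻¹,
        hKn.conj_mem _ ⟨m, rfl⟩ g⟩ = (θ (φ g.right m) : ℂˣ) := by
      intro m
      have h2 : (⟨g * (⟨SemidirectProduct.inl m, ⟨m, rfl⟩⟩ : K) * g⁻¹, hKn.conj_mem _ ⟨m, rfl⟩ g⟩ : K) =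
          ⟨SemidirectProduct.inl (φ g.right m), ⟨_, rfl⟩⟩ := Subtype.ext (conj_inl g m)
      rw [h2, hψK]
    rw [hTm, mem_stab]
    constructor
    · rintro h ⟨_, m, rfl⟩
      rw [h1, h, hψK]
    · intro h m
      have h2 := h ⟨SemidirectProduct.inl m, ⟨m, rfl⟩⟩
      rw [h1, hψK] at h2
      exact Units.ext h2
  have hKT : K ≤ T := by
    rintro _ ⟨m, rfl⟩
    rw [hTm, SemidirectProduct.right_inl]
    exact one_mem _
  obtain ⟨ψ, hψ, hind, hψθ⟩ := CharDeep.CliffordCorr.clifford_correspondence K (ψK : K → ℂ) ψK.2 T hTc hKT χ hχ hcon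
  -- the restriction to `K`
  have iKT : Fintype (K.subgroupOf T) := Fintype.ofFinite _
  let e := Subgroup.subgroupOfEquivOfLe hKT
  obtain ⟨d, hd⟩ := S0900.restrict_eq_smul (K.subgroupOf T) ψ hψ (fun k => (ψK : K → ℂ) (e k))
    (isIrr_comp e.toMonoidHom e.surjective ψK.2) (by
      have h1 := classInner_equiv e.toEquiv (fun n : K => ψ ⟨(n : N ⋊[φ] S), hKT n.2⟩) (ψK : K → ℂ)
      have h2 : classInner (fun n : K.subgroupOf T => ψ n) (fun k => (ψK : K → ℂ) (e k)) =
          classInner (fun n : K => ψ ⟨(n : N ⋊[φ] S), hKT n.2⟩) (ψK : K → ℂ) := h1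
      rw [h2, hψθ]
      exact hcon) (by
      intro g n
      have h1 := (hTc (g : N ⋊[φ] S)).1 g.2 (e n)
      exact h1)
  let i : N → T := fun n => ⟨SemidirectProduct.inl n, hKT ⟨n, rfl⟩⟩
  have hi : ∀ n, ψ (i n) = d * (θ n : ℂˣ) := by
    intro n
    have h1 := congrFun hd ⟨i n, ⟨n, rfl⟩⟩
    rw [← hψK]
    exact h1
  have hψ1 : ψ 1 = d := by
    have h1 := hi 1
    rw [map_one, Units.val_one, mul_one] at h1
    rw [← h1]
    have h2 : i 1 = 1 := Subtype.ext (map_one _)
    rw [h2]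
  have hsc : ∀ n t, ψ (i n * t) = (θ n : ℂˣ) * ψ t := fun n t => scalar hψ (norm_hom θ n) hψ1 (hi n) t
  -- the restriction to the stabilizer
  let j : stab φ θ →* T :=
    { toFun := fun s => ⟨SemidirectProduct.inr (s : S), by
        rw [hTm, SemidirectProduct.right_inr]
        exact s.2⟩
      map_one' := Subtype.ext (map_one _)
      map_mul' := fun a b => Subtype.ext (map_mul _ _ _) }
  have iS : Fintype (stab φ θ) := Fintype.ofFinite _
  let E : N × stab φ θ ≃ T :=
    { toFun := fun x => i x.1 * j x.2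
      invFun := fun t => (t.1.left, ⟨t.1.right, t.2⟩)
      left_inv := by
        rintro ⟨n, s⟩
        refine Prod.ext ?_ (Subtype.ext ?_)
        · change (SemidirectProduct.inl n * SemidirectProduct.inr (s : S) : N ⋊[φ] S).left = n
          simp
        · change (SemidirectProduct.inl n * SemidirectProduct.inr (s : S) : N ⋊[φ] S).right = s
          simp
      right_inv := fun t => Subtype.ext (SemidirectProduct.inl_left_mul_inr_right t.1) }
  have hirr : IsIrrCharacter (stab φ θ) (ψ ∘ j) := by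
    rw [isIrr_iff_classInner_self (isCharacter_comp j (isIrr_isCharacter hψ))]
    have h1 := (isIrr_iff_classInner_self (isIrr_isCharacter hψ)).1 hψ
    rw [classInner_def, ← Equiv.sum_comp E, Fintype.sum_prod_type] at h1
    have h2 : ∀ n : N, ∑ s : stab φ θ, ψ (E (n, s)) * conj (ψ (E (n, s))) =
        ∑ s : stab φ θ, (ψ ∘ j) s * conj ((ψ ∘ j) s) := by
      intro n
      refine Finset.sum_congr rfl fun s _ => ?_
      have h3 : ψ (E (n, s)) = (θ n : ℂˣ) * ψ (j s) := hsc n (j s)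
      rw [h3, map_mul]
      have h4 : ((θ n : ℂˣ) : ℂ) * conj ((θ n : ℂˣ) : ℂ) = 1 := by
        rw [Complex.mul_conj, Complex.normSq_eq_norm_sq, norm_hom]
        norm_num
      calc ((θ n : ℂˣ) : ℂ) * ψ (j s) * (conj ((θ n : ℂˣ) : ℂ) * conj (ψ (j s))) =
          (((θ n : ℂˣ) : ℂ) * conj ((θ n : ℂˣ) : ℂ)) * (ψ (j s) * conj (ψ (j s))) := by ring
        _ = _ := by rw [h4, one_mul]; rfl
    rw [Finset.sum_congr rfl fun n _ => h2 n, Finset.sum_const, Finset.card_univ, ← Nat.card_congr E, Nat.card_prod,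
      nsmul_eq_mul, ← Nat.card_eq_fintype_card] at h1
    rw [classInner_def, ← h1]
    have h5 : (Nat.card N : ℂ) ≠ 0 := by exact_mod_cast Nat.card_pos.ne'
    push_cast
    rw [mul_inv]
    field_simp
  have hχw : χ (SemidirectProduct.inr w) = indFun T ψ (SemidirectProduct.inr w) := by rw [hind]
  have hex : ∃ x : N ⋊[φ] S, x⁻¹ * SemidirectProduct.inr w * x ∈ T := by
    by_contra hcon2
    push Not at hcon2
    apply h0
    rw [hχw]
    unfold indFun
    rw [Finset.sum_eq_zero fun x _ => extendByZero_of_notMem T ψ (hcon2 x), mul_zero]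
  obtain ⟨x, hx⟩ := hex
  have hr : ∀ x : N ⋊[φ] S, x⁻¹ * SemidirectProduct.inr w * x ∈ T ↔ x.right⁻¹ * w * x.right ∈ stab φ θ := by
    intro x
    rw [hTm]
    simp
  have hh := (hr x).1 hx
  have hh' : (SemidirectProduct.inr x.right : N ⋊[φ] S)⁻¹ * SemidirectProduct.inr w * SemidirectProduct.inr x.right ∈ T := by
    rw [hTm]
    simpa using hh
  refine ⟨θ, x.right, hh, ψ ∘ j, hirr, ?_⟩
  rw [hχw, indFun_eq T (isIrr_isClassFunction hψ) hh']
  · change ψ _ = ψ _
    congr 1
    apply Subtype.ext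
    change _ = SemidirectProduct.inr (x.right⁻¹ * w * x.right)
    rw [map_mul, map_mul, map_inv]
  · intro y hy
    have h1 := hU θ x.right y.right hh ((hr y).1 hy)
    rw [hTm]
    simpa using h1

end Cfsg.Agent.H215.WB
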