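import Cfsg.Agent.H215.WB.Sym
import Cfsg.Agent.H215.WB.Cliff

/-!
# Signed permutations: `φ(w) ∈ {0, 1, -1}` if the cycle lengths of `w ∈ S_n` are superincreasing
-/

set_option autoImplicit false
set_option linter.unusedSectionVars false

namespace Cfsg.Agent.H215.WB

open Finset Cfsg Cfsg.Agent.Characters.Core

universe u

/-! ### superincreasing multisets -/

theorem SI.le {s : Multiset ℕ} (h : SI s) : ∀ {t : Multiset ℕ}, t ≤ s → SI t := by
  induction h with
  | zero =>
    intro t ht
    rw [Multiset.le_zero.1 ht]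
    exact SI.zero
  | cons k s _ hk ih =>
    intro t ht
    by_cases hkt : k ∈ t
    · obtain ⟨t', rfl⟩ := Multiset.exists_cons_of_mem hkt
      have h1 : t' ≤ s := (Multiset.cons_le_cons_iff k).1 ht
      refine SI.cons k t' (ih h1) (lt_of_le_of_lt ?_ hk)
      obtain ⟨r, rfl⟩ := Multiset.le_iff_exists_add.1 h1
      rw [Multiset.sum_add]
      exact Nat.le_add_right _ _
    · exact ih ((Multiset.le_cons_of_notMem hkt).1 ht)

theorem sum_le_of_le {s t : Multiset ℕ} (h : t ≤ s) : t.sum ≤ s.sum := by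
  obtain ⟨r, rfl⟩ := Multiset.le_iff_exists_add.1 h
  rw [Multiset.sum_add]
  exact Nat.le_add_right _ _

theorem SI.sum_eq {s : Multiset ℕ} (h : SI s) : ∀ {t₁ t₂ : Multiset ℕ}, t₁ + t₂ ≤ s → t₁.sum = t₂.sum → t₁.sum = 0 := by
  induction h with
  | zero =>
    intro t₁ t₂ ht _
    have h1 := sum_le_of_le ht
    rw [Multiset.sum_add, Multiset.sum_zero] at h1
    omega
  | cons k s _ hk ih =>
    intro t₁ t₂ ht he
    by_cases h1 : k ∈ t₁
    · exfalso
      obtain ⟨t', rfl⟩ := Multiset.exists_cons_of_mem h1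
      rw [Multiset.cons_add, Multiset.cons_le_cons_iff] at ht
      have h2 := sum_le_of_le ht
      rw [Multiset.sum_add] at h2
      rw [Multiset.sum_cons] at he
      omega
    · by_cases h2 : k ∈ t₂
      · exfalso
        obtain ⟨t', rfl⟩ := Multiset.exists_cons_of_mem h2
        rw [Multiset.add_cons, Multiset.cons_le_cons_iff] at ht
        have h2 := sum_le_of_le ht
        rw [Multiset.sum_add] at h2
        rw [Multiset.sum_cons] at he
        omega
      · refine ih ((Multiset.le_cons_of_notMem ?_).1 ht) he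
        rw [Multiset.mem_add]
        tauto

/-! ### cycle lengths -/

section Ty

variable {α : Type u} [Fintype α] [DecidableEq α]

/-- cycle lengths, with the fixed points -/
abbrev tp (g : Equiv.Perm α) : Multiset ℕ := g.partition.parts

theorem tp_eq (g : Equiv.Perm α) : tp g = g.cycleType + Multiset.replicate (Fintype.card α - g.cycleType.sum) 1 := by
  rw [tp, Equiv.Perm.parts_partition, Equiv.Perm.sum_cycleType]

theorem tp_sum (g : Equiv.Perm α) : (tp g).sum = Fintype.card α := g.partition.parts_sum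

theorem subtypeCongr_eq (p : α → Prop) [DecidablePred p] (u : Equiv.Perm {a // p a}) (v : Equiv.Perm {a // ¬ p a}) :
    u.subtypeCongr v = Equiv.Perm.ofSubtype u * Equiv.Perm.ofSubtype v := by
  ext x
  rw [Equiv.Perm.mul_apply]
  by_cases h : p x
  · have h1 : ¬ ¬ p x := not_not.2 h
    rw [Equiv.Perm.ofSubtype_apply_of_not_mem v h1, Equiv.Perm.ofSubtype_apply_of_mem u h,
      Equiv.Perm.subtypeCongr.left_apply _ _ h]
  · rw [Equiv.Perm.ofSubtype_apply_of_mem v h, Equiv.Perm.ofSubtype_apply_of_not_mem u (v ⟨x, h⟩).2,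
      Equiv.Perm.subtypeCongr.right_apply _ _ h]

theorem tp_subtypeCongr (p : α → Prop) [DecidablePred p] (u : Equiv.Perm {a // p a}) (v : Equiv.Perm {a // ¬ p a}) :
    tp (u.subtypeCongr v) = tp u + tp v := by
  have hd : (Equiv.Perm.ofSubtype u : Equiv.Perm α).Disjoint (Equiv.Perm.ofSubtype v) := by
    intro x
    by_cases h : p x
    · exact Or.inr (Equiv.Perm.ofSubtype_apply_of_not_mem v (not_not.2 h))
    · exact Or.inl (Equiv.Perm.ofSubtype_apply_of_not_mem u h)
  have h1 : (u.subtypeCongr v).cycleType = u.cycleType + v.cycleType := by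
    rw [subtypeCongr_eq, hd.cycleType_mul, Equiv.Perm.cycleType_ofSubtype, Equiv.Perm.cycleType_ofSubtype]
  have h2 : Fintype.card α = Fintype.card {a // p a} + Fintype.card {a // ¬ p a} := by
    have := Fintype.card_subtype_compl p
    have := Fintype.card_subtype_le p
    omega
  have h3 : u.cycleType.sum ≤ Fintype.card {a // p a} := by
    rw [Equiv.Perm.sum_cycleType]
    exact Finset.card_le_univ _
  have h4 : v.cycleType.sum ≤ Fintype.card {a // ¬ p a} := by
    rw [Equiv.Perm.sum_cycleType]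
    exact Finset.card_le_univ _
  rw [tp_eq, tp_eq u, tp_eq v, h1, Multiset.sum_add, h2]
  have h5 : Fintype.card {a // p a} + Fintype.card {a // ¬ p a} - (u.cycleType.sum + v.cycleType.sum) =
      (Fintype.card {a // p a} - u.cycleType.sum) + (Fintype.card {a // ¬ p a} - v.cycleType.sum) := by omega
  rw [h5, Multiset.replicate_add]
  abel

theorem mem_range_iff (p : α → Prop) [DecidablePred p] (w : Equiv.Perm α) :
    w ∈ (Equiv.Perm.subtypeCongrHom p).range ↔ ∀ x, p (w x) ↔ p x := by
  constructor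
  · rintro ⟨⟨u, v⟩, rfl⟩ x
    change p ((u.subtypeCongr v) x) ↔ p x
    by_cases h : p x
    · rw [Equiv.Perm.subtypeCongr.left_apply _ _ h]
      exact ⟨fun _ => h, fun _ => (u ⟨x, h⟩).2⟩
    · rw [Equiv.Perm.subtypeCongr.right_apply _ _ h]
      exact ⟨fun h' => absurd h' (v ⟨x, h⟩).2, fun h' => absurd h' h⟩
  · intro h
    refine ⟨⟨w.subtypePerm h, w.subtypePerm fun x => not_congr (h x)⟩, ?_⟩
    change Equiv.Perm.subtypeCongr _ _ = w
    ext x
    by_cases hx : p x
    · rw [Equiv.Perm.subtypeCongr.left_apply _ _ hx]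
      rfl
    · rw [Equiv.Perm.subtypeCongr.right_apply _ _ hx]
      rfl

/-- two stable sets of the same size are equal -/
theorem stable_unique {w : Equiv.Perm α} (hw : SI (tp w)) {A B : Finset α} (hA : ∀ x, w x ∈ A ↔ x ∈ A)
    (hB : ∀ x, w x ∈ B ↔ x ∈ B) (hc : A.card = B.card) : A = B := by
  classical
  have hP : ∀ x, w x ∈ A \ B ↔ x ∈ A \ B := fun x => by rw [mem_sdiff, mem_sdiff, hA, hB]
  have hQ : ∀ x, w x ∈ B \ A ↔ x ∈ B \ A := fun x => by rw [mem_sdiff, mem_sdiff, hA, hB]
  obtain ⟨⟨u, v⟩, huv⟩ := (mem_range_iff (fun x => x ∈ A \ B) w).2 hP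
  have huv' : u.subtypeCongr v = w := huv
  have hv : ∀ x, (v x : α) ∈ B \ A ↔ (x : α) ∈ B \ A := by
    intro x
    have h1 : w x = v x := by
      rw [← huv', Equiv.Perm.subtypeCongr.right_apply _ _ x.2]
    rw [← h1, hQ]
  obtain ⟨⟨u', v'⟩, huv2⟩ := (mem_range_iff (fun x : {a // ¬ a ∈ A \ B} => (x : α) ∈ B \ A) v).2 hv
  have huv2' : u'.subtypeCongr v' = v := huv2
  have h1 : tp w = tp u + (tp u' + tp v') := by
    rw [← huv', tp_subtypeCongr, ← huv2', tp_subtypeCongr]
    congr!
  have h2 : tp u + tp u' ≤ tp w := by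
    rw [h1, ← add_assoc]
    exact Multiset.le_add_right _ _
  have h3 : (A \ B).card = (B \ A).card := by
    have h4 := Finset.card_sdiff_add_card_inter A B
    have h5 := Finset.card_sdiff_add_card_inter B A
    rw [Finset.inter_comm B A] at h5
    omega
  have h6 : (tp u).sum = (A \ B).card := by
    rw [tp_sum, Fintype.card_coe]
  have h7 : (tp u').sum = (B \ A).card := by
    rw [tp_sum, Fintype.card_subtype]
    refine Finset.card_bij' (fun x _ => (x : α)) (fun x hx => ⟨x, fun h => (mem_sdiff.1 hx).2 (mem_sdiff.1 h).1⟩)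
      ?_ ?_ ?_ ?_
    · intro x hx
      exact (Finset.mem_filter.1 hx).2
    · intro x hx
      exact Finset.mem_filter.2 ⟨Finset.mem_univ _, hx⟩
    · intro x _
      rfl
    · intro x _
      rfl
  have h8 := hw.sum_eq h2 (by rw [h6, h7, h3])
  rw [h6, Finset.card_eq_zero, Finset.sdiff_eq_empty_iff_subset] at h8
  exact Finset.eq_of_subset_of_card_le h8 hc.ge

end Ty

/-! ### signed permutations -/

section Bn

variable {α : Type u} [Fintype α] [DecidableEq α]

omit [Fintype α] [DecidableEq α] in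
theorem inv_app (σ : Equiv.Perm α) (a : α) : σ⁻¹ (σ a) = a := σ.symm_apply_apply a

omit [Fintype α] [DecidableEq α] in
theorem app_inv (σ : Equiv.Perm α) (a : α) : σ (σ⁻¹ a) = a := σ.apply_symm_apply a

/-- the action of the permutations on the sign changes -/
def act (α : Type u) : Equiv.Perm α →* MulAut (α → ℤˣ) where
  toFun σ :=
    { toFun := fun ε a => ε (σ⁻¹ a)
      invFun := fun ε a => ε (σ a)
      left_inv := fun ε => by
        funext a
        change ε (σ⁻¹ (σ a)) = ε a
        rw [inv_app]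
      right_inv := fun ε => by
        funext a
        change ε (σ (σ⁻¹ a)) = ε a
        rw [app_inv]
      map_mul' := fun _ _ => rfl }
  map_one' := rfl
  map_mul' := fun _ _ => rfl

theorem act_apply (σ : Equiv.Perm α) (ε : α → ℤˣ) (a : α) : act α σ ε a = ε (σ⁻¹ a) := rfl

theorem act_single (σ : Equiv.Perm α) (a : α) (z : ℤˣ) : act α σ (Pi.mulSingle a z) = Pi.mulSingle (σ a) z := by
  funext b
  rw [act_apply]
  by_cases h : b = σ a
  · subst h
    rw [inv_app, Pi.mulSingle_eq_same, Pi.mulSingle_eq_same]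
  · rw [Pi.mulSingle_eq_of_ne h, Pi.mulSingle_eq_of_ne]
    intro h'
    apply h
    rw [← h', app_inv]

/-- the support of a linear character of the group of sign changes -/
noncomputable def dom (θ : (α → ℤˣ) →* ℂˣ) : Finset α := by
  classical
  exact Finset.univ.filter fun a => θ (Pi.mulSingle a (-1)) ≠ 1

theorem mem_dom {θ : (α → ℤˣ) →* ℂˣ} {a : α} : a ∈ dom θ ↔ θ (Pi.mulSingle a (-1)) ≠ 1 := by
  classical
  unfold dom
  rw [Finset.mem_filter]
  exact ⟨fun h => h.2, fun h => ⟨Finset.mem_univ _, h⟩⟩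

theorem theta_single (θ : (α → ℤˣ) →* ℂˣ) (a : α) :
    θ (Pi.mulSingle a (-1)) = 1 ∨ θ (Pi.mulSingle a (-1)) = -1 := by
  have h1 : θ (Pi.mulSingle a (-1)) * θ (Pi.mulSingle a (-1)) = 1 := by
    rw [← map_mul, ← Pi.mulSingle_mul, neg_one_mul, neg_neg, Pi.mulSingle_one, map_one]
  have h2 : ((θ (Pi.mulSingle a (-1)) : ℂˣ) : ℂ) * ((θ (Pi.mulSingle a (-1)) : ℂˣ) : ℂ) = 1 := by
    rw [← Units.val_mul, h1, Units.val_one]
  rcases mul_self_eq_one_iff.1 h2 with h | h
  · exact Or.inl (Units.ext h)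
  · exact Or.inr (Units.ext (by rw [h]; simp))

theorem stab_iff (θ : (α → ℤˣ) →* ℂˣ) (σ : Equiv.Perm α) : σ ∈ stab (act α) θ ↔ ∀ x, σ x ∈ dom θ ↔ x ∈ dom θ := by
  rw [mem_stab]
  constructor
  · intro h x
    rw [mem_dom, mem_dom, ← act_single, h]
  · intro h
    have h1 : θ.comp (act α σ).toMonoidHom = θ := by
      refine MonoidHom.functions_ext _ _ _ fun a z => ?_
      change θ (act α σ (Pi.mulSingle a z)) = θ (Pi.mulSingle a z)
      rw [act_single]
      rcases Int.units_eq_one_or z with rfl | rfl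
      · rw [Pi.mulSingle_one, Pi.mulSingle_one]
      · have h2 := h a
        rw [mem_dom, mem_dom] at h2
        rcases theta_single θ a with h3 | h3
        · rcases theta_single θ (σ a) with h4 | h4
          · rw [h3, h4]
          · exfalso
            refine (h2.1 ?_) h3
            rw [h4]
            intro h5
            have h6 := congrArg Units.val h5
            norm_num at h6
        · rcases theta_single θ (σ a) with h4 | h4
          · exfalso
            refine (h2.2 ?_) h4
            rw [h3]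
            intro h5
            have h6 := congrArg Units.val h5
            norm_num at h6
          · rw [h3, h4]
    intro n
    exact DFunLike.congr_fun h1 n

/-- signed permutations -/
abbrev Wb (α : Type u) : Type u := (α → ℤˣ) ⋊[act α] Equiv.Perm α

instance : Fintype (Wb α) := Fintype.ofEquiv _ SemidirectProduct.equivProd.symm

theorem stab_range (θ : (α → ℤˣ) →* ℂˣ) :
    stab (act α) θ = (Equiv.Perm.subtypeCongrHom fun x => x ∈ dom θ).range := by
  ext σ
  rw [stab_iff, mem_range_iff]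

/-- **`|χ(w)| ≤ 1` for the signed permutations** -/
theorem signed {χ : Wb α → ℂ} (hχ : IsIrrCharacter (Wb α) χ) {w : Equiv.Perm α} (hw : SI (tp w)) :
    χ (SemidirectProduct.inr w) = 0 ∨ χ (SemidirectProduct.inr w) = 1 ∨ χ (SemidirectProduct.inr w) = -1 := by
  by_cases h0 : χ (SemidirectProduct.inr w) = 0
  · exact Or.inl h0
  obtain ⟨θ, h, hh, ψ, hψ, hval⟩ := cliff hχ w (by
    intro θ x y hx hy
    rw [stab_iff] at hx hy ⊢
    have h1 : (dom θ).map x.toEmbedding = (dom θ).map y.toEmbedding := by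
      have key : ∀ z : Equiv.Perm α, (∀ a, (z⁻¹ * w * z) a ∈ dom θ ↔ a ∈ dom θ) →
          ∀ a, w a ∈ (dom θ).map z.toEmbedding ↔ a ∈ (dom θ).map z.toEmbedding := by
        intro z hz a
        rw [Finset.mem_map_equiv, Finset.mem_map_equiv]
        have h2 := hz (z⁻¹ a)
        rw [Equiv.Perm.mul_apply, Equiv.Perm.mul_apply, app_inv] at h2
        exact h2
      refine stable_unique hw (key x hx) (key y hy) ?_
      rw [Finset.card_map, Finset.card_map]
    intro a
    rw [Equiv.Perm.mul_apply]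
    have h2 : y a ∈ (dom θ).map x.toEmbedding ↔ y a ∈ (dom θ).map y.toEmbedding := by rw [h1]
    rw [Finset.mem_map_equiv, Finset.mem_map_equiv, Equiv.symm_apply_apply] at h2
    exact h2) h0
  rw [hval]
  obtain ⟨⟨u, v⟩, huv⟩ : h⁻¹ * w * h ∈ (Equiv.Perm.subtypeCongrHom fun x => x ∈ dom θ).range := by
    rw [← stab_range]
    exact hh
  have huv' : u.subtypeCongr v = h⁻¹ * w * h := huv
  -- the isomorphism
  let e : (Equiv.Perm {a // a ∈ dom θ} × Equiv.Perm {a // ¬ a ∈ dom θ}) →* stab (act α) θ :=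
    (Equiv.Perm.subtypeCongrHom fun x => x ∈ dom θ).codRestrict (stab (act α) θ) fun x => by
      rw [stab_range]
      exact ⟨x, rfl⟩
  have he : Function.Surjective e := by
    rintro ⟨σ, hσ⟩
    have hσ' : σ ∈ (Equiv.Perm.subtypeCongrHom fun x => x ∈ dom θ).range := by
      rw [← stab_range]
      exact hσ
    obtain ⟨x, hx⟩ := hσ'
    exact ⟨x, Subtype.ext hx⟩
  obtain ⟨χ₁, χ₂, h1, h2, h3⟩ := (S0188.result _).1 (isIrr_comp e he hψ)
  have h4 : ψ ⟨h⁻¹ * w * h, hh⟩ = χ₁ u * χ₂ v := by
    have h5 := congrFun h3 (u, v)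
    rw [← h5, Function.comp_apply]
    congr 1
    exact Subtype.ext huv'.symm
  have h5 : tp (h⁻¹ * w * h) = tp w := by
    have h6 : IsConj (h⁻¹ * w * h) w := isConj_iff.2 ⟨h, by group⟩
    rw [tp, tp, Equiv.Perm.partition_eq_of_isConj.1 h6]
  rw [← huv', tp_subtypeCongr] at h5
  have hu := hw.le (le_of_le_of_eq (Multiset.le_add_right _ _) h5)
  have hv := hw.le (le_of_le_of_eq (Multiset.le_add_left _ _) h5)
  rw [h4]
  have hu' : SI (tp u) := by convert hu
  have hv' : SI (tp v) := by convert hv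
  rcases sym h1 hu' with h | h | h <;> rcases sym h2 hv' with h' | h' | h' <;> rw [h, h'] <;> norm_num

end Bn

end Cfsg.Agent.H215.WB
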