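import Cfsg.Agent.H215.WB.Bn
import Cfsg.Agent.Nodes.TypeC

/-!
# The Coxeter group of type `B_n` is the group of signed permutations

`isoB cs : W ≃* Wb (Fin n)` for `cs : CoxeterSystem (CoxeterMatrix.B n) W`, with
`isoB cs (s_i) = inr (swap i (i + 1))` for `i + 1 < n`.
-/

set_option autoImplicit false
set_option linter.unusedSectionVars false

namespace Cfsg.Agent.H215.WB

open Cfsg Cfsg.Agent.ChevalleyStructure.CoxeterGeom Cfsg.Agent.Tits.Roots Cfsg.Agent.Nodes.TypeC

variable {n : ℕ}

/-- the simple reflections as permutations of the signed indices -/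
def P (i : Fin n) : Equiv.Perm (Fin n × Bool) := ⟨sg i, sg i, sg_sg i, sg_sg i⟩

theorem P_apply (i : Fin n) (x : Fin n × Bool) : P i x = sg i x := rfl

/-- the action of a sign -/
def bx (z : ℤˣ) (b : Bool) : Bool := if z = 1 then b else !b

theorem bx_one (b : Bool) : bx 1 b = b := if_pos rfl

theorem bx_neg (b : Bool) : bx (-1) b = !b := if_neg (by decide)

theorem bx_mul (z z' : ℤˣ) (b : Bool) : bx (z * z') b = bx z (bx z' b) := by
  rcases Int.units_eq_one_or z with rfl | rfl <;> rcases Int.units_eq_one_or z' with rfl | rfl <;>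
    simp [bx_one, bx_neg]

/-- sign changes -/
def f1 : (Fin n → ℤˣ) →* Equiv.Perm (Fin n × Bool) where
  toFun ε := ⟨fun x => (x.1, bx (ε x.1) x.2), fun x => (x.1, bx (ε x.1)⁻¹ x.2),
    fun x => by
      refine Prod.ext rfl ?_
      change bx (ε x.1)⁻¹ (bx (ε x.1) x.2) = x.2
      rw [← bx_mul, inv_mul_cancel, bx_one],
    fun x => by
      refine Prod.ext rfl ?_
      change bx (ε x.1) (bx (ε x.1)⁻¹ x.2) = x.2
      rw [← bx_mul, mul_inv_cancel, bx_one]⟩
  map_one' := by
    ext x
    · rfl
    · change bx 1 x.2 = x.2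
      exact bx_one _
  map_mul' ε ε' := by
    ext x
    · rfl
    · change bx (ε x.1 * ε' x.1) x.2 = bx (ε x.1) (bx (ε' x.1) x.2)
      exact bx_mul _ _ _

/-- permutations -/
def f2 : Equiv.Perm (Fin n) →* Equiv.Perm (Fin n × Bool) where
  toFun σ := ⟨fun x => (σ x.1, x.2), fun x => (σ⁻¹ x.1, x.2),
    fun x => Prod.ext (inv_app σ x.1) rfl, fun x => Prod.ext (app_inv σ x.1) rfl⟩
  map_one' := rfl
  map_mul' _ _ := rfl

/-- the action on the signed indices -/
def cc : Wb (Fin n) →* Equiv.Perm (Fin n × Bool) :=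
  SemidirectProduct.lift f1 f2 (by
    intro σ
    refine MonoidHom.ext fun ε => ?_
    refine Equiv.ext fun x => ?_
    change (x.1, bx (ε (σ⁻¹ x.1)) x.2) = (σ (σ⁻¹ x.1), bx (ε (σ⁻¹ x.1)) x.2)
    rw [app_inv])

theorem cc_apply (g : Wb (Fin n)) (x : Fin n × Bool) : cc g x = (g.right x.1, bx (g.left (g.right x.1)) x.2) := rfl

theorem cc_injective : Function.Injective (cc (n := n)) := by
  rw [injective_iff_map_eq_one]
  intro g hg
  have h1 : ∀ x : Fin n × Bool, (g.right x.1, bx (g.left (g.right x.1)) x.2) = x := fun x => by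
    rw [← cc_apply, hg, Equiv.Perm.one_apply]
  have h2 : g.right = 1 := Equiv.ext fun a => congrArg Prod.fst (h1 (a, true))
  refine SemidirectProduct.ext ?_ h2
  funext a
  have h3 := congrArg Prod.snd (h1 (a, true))
  rw [h2] at h3
  change bx (g.left a) true = true at h3
  rcases Int.units_eq_one_or (g.left a) with h | h
  · exact h
  · rw [h, bx_neg] at h3
    exact absurd h3 (by decide)

/-- the generators -/
def gen (i : Fin n) : Wb (Fin n) :=
  if h : (i : ℕ) + 1 < n then SemidirectProduct.inr (Equiv.swap i ⟨i + 1, h⟩)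
  else SemidirectProduct.inl (Pi.mulSingle i (-1))

theorem gen_lt {i : Fin n} (h : (i : ℕ) + 1 < n) : gen i = SemidirectProduct.inr (Equiv.swap i ⟨i + 1, h⟩) := dif_pos h

theorem gen_last {i : Fin n} (h : ¬ (i : ℕ) + 1 < n) : gen i = SemidirectProduct.inl (Pi.mulSingle i (-1)) := dif_neg h

theorem cc_gen (i : Fin n) : cc (gen i) = P i := by
  refine Equiv.ext fun x => ?_
  rw [P_apply]
  by_cases h : (i : ℕ) + 1 < n
  · rw [gen_lt h, cc_apply, SemidirectProduct.right_inr, SemidirectProduct.left_inr, Pi.one_apply, bx_one, sg, dif_pos h]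
    by_cases h1 : x.1 = i
    · rw [if_pos h1, h1, Equiv.swap_apply_left]
    · rw [if_neg h1]
      by_cases h2 : x.1 = ⟨i + 1, h⟩
      · rw [if_pos h2, h2, Equiv.swap_apply_right]
      · rw [if_neg h2, Equiv.swap_apply_of_ne_of_ne h1 h2]
  · rw [gen_last h, cc_apply, SemidirectProduct.right_inl, SemidirectProduct.left_inl, Equiv.Perm.one_apply, sg,
      dif_neg h]
    by_cases h1 : x.1 = i
    · rw [if_pos h1, h1, Pi.mulSingle_eq_same, bx_neg]
    · rw [if_neg h1, Pi.mulSingle_eq_of_ne h1, bx_one]

theorem P_pow (i j : Fin n) (m : ℕ) (x : Fin n × Bool) : ((P i * P j) ^ m) x = (fun y => sg i (sg j y))^[m] x := by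
  induction m with
  | zero => rfl
  | succ m ih =>
    rw [pow_succ', Equiv.Perm.mul_apply, ih, Function.iterate_succ_apply', Equiv.Perm.mul_apply, P_apply, P_apply]

theorem liftable : (CoxeterMatrix.B n).IsLiftable (gen : Fin n → Wb (Fin n)) := by
  intro i j
  apply cc_injective
  rw [map_pow, map_mul, cc_gen, cc_gen, map_one]
  refine Equiv.ext fun x => ?_
  rw [P_pow, sg_braid, Equiv.Perm.one_apply]

section Iso

variable {W : Type*} [Group W] (cs : CoxeterSystem (CoxeterMatrix.B n) W)

/-- the homomorphism -/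
noncomputable def homB : W →* Wb (Fin n) := cs.lift ⟨gen, liftable⟩

theorem homB_simple (i : Fin n) : homB cs (cs.simple i) = gen i := cs.lift_apply_simple liftable i

theorem ee_act (w : W) : ∀ (x : Fin n → ℤ) (a b : Fin n × Bool), ee x = wt a + wt b →
    ee (rep cs (isCartan n) w x) = wt (cc (homB cs w) a) + wt (cc (homB cs w) b) := by
  induction w using cs.simple_induction_left with
  | one =>
    intro x a b h
    rw [map_one, map_one, map_one, Module.End.one_apply]
    exact h
  | mul_simple_left w i ih =>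
    intro x a b h
    rw [rep_mul_apply, rep_simple, ee_refl_of (ih x a b h), map_mul, homB_simple, map_mul, cc_gen]
    rfl

theorem homB_injective : Function.Injective (homB cs) := by
  rw [injective_iff_map_eq_one]
  intro w hw
  apply rep_injective cs (isCartan n)
  rw [map_one]
  have h1 : ∀ i, rep cs (isCartan n) w (sr i) = sr i := by
    intro i
    apply ee_injective
    rw [ee_act cs w (sr i) (i, true) (nx i) (ee_sr i), hw, map_one]
    exact (ee_sr i).symm
  refine LinearMap.ext fun x => ?_
  have h2 : x = ∑ k, x k • sr k := by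
    funext k
    simp [sr, Finset.sum_apply, Pi.single_apply]
  rw [h2, map_sum, Module.End.one_apply]
  exact Finset.sum_congr rfl fun k _ => by rw [map_smul, h1]

theorem homB_surjective : Function.Surjective (homB cs) := by
  rw [← MonoidHom.range_eq_top]
  have hg : ∀ i : Fin n, gen i ∈ (homB cs).range := fun i => ⟨_, homB_simple cs i⟩
  -- the permutations
  have hr : ∀ σ : Equiv.Perm (Fin n), (SemidirectProduct.inr σ : Wb (Fin n)) ∈ (homB cs).range := by
    intro σ
    have h1 : σ ∈ ((homB cs).range.comap (SemidirectProduct.inr : Equiv.Perm (Fin n) →* Wb (Fin n))) := by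
      have h2 : ((homB cs).range.comap (SemidirectProduct.inr : Equiv.Perm (Fin n) →* Wb (Fin n))) = ⊤ := by
        cases n with
        | zero => exact Subsingleton.elim _ _
        | succ m =>
          rw [eq_top_iff]
          intro τ _
          have h3 : τ ∈ Submonoid.closure (Set.range fun i : Fin m => Equiv.swap i.castSucc i.succ) := by
            rw [Equiv.Perm.mclosure_swap_castSucc_succ]
            exact Submonoid.mem_top τ
          have h7 : Submonoid.closure (Set.range fun i : Fin m => Equiv.swap i.castSucc i.succ) ≤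
              ((homB cs).range.comap (SemidirectProduct.inr : Equiv.Perm (Fin (m + 1)) →* Wb (Fin (m + 1)))).toSubmonoid := by
            rw [Submonoid.closure_le]
            rintro _ ⟨i, rfl⟩
            change (SemidirectProduct.inr (Equiv.swap i.castSucc i.succ) : Wb (Fin (m + 1))) ∈ (homB cs).range
            have h4 : ((i.castSucc : Fin (m + 1)) : ℕ) + 1 < m + 1 := by
              rw [Fin.val_castSucc]
              omega
            have h5 := hg i.castSucc
            rw [gen_lt h4] at h5
            have h6 : (⟨(i.castSucc : ℕ) + 1, h4⟩ : Fin (m + 1)) = i.succ := Fin.ext (by simp)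
            rw [h6] at h5
            exact h5
          exact h7 h3
      rw [h2]
      exact Subgroup.mem_top σ
    exact h1
  have hl : ∀ ε : Fin n → ℤˣ, (SemidirectProduct.inl ε : Wb (Fin n)) ∈ (homB cs).range := by
    have h1 : ∀ a : Fin n, (SemidirectProduct.inl (Pi.mulSingle a (-1)) : Wb (Fin n)) ∈ (homB cs).range := by
      intro a
      have hn : 0 < n := by have := a.2; omega
      have hb : ¬ ((⟨n - 1, by omega⟩ : Fin n) : ℕ) + 1 < n := by
        change ¬ (n - 1) + 1 < n
        omega
      have h2 := hg ⟨n - 1, by omega⟩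
      rw [gen_last hb] at h2
      have h3 := mul_mem (mul_mem (hr (Equiv.swap ⟨n - 1, by omega⟩ a)) h2)
        (inv_mem (hr (Equiv.swap ⟨n - 1, by omega⟩ a)))
      rw [← map_inv, ← SemidirectProduct.inl_aut, act_single, Equiv.swap_apply_left] at h3
      exact h3
    intro ε
    have h2 : ∏ a, Pi.mulSingle a (ε a) ∈ (homB cs).range.comap (SemidirectProduct.inl : (Fin n → ℤˣ) →* Wb (Fin n)) := by
      refine Subgroup.prod_mem _ fun a _ => ?_
      rcases Int.units_eq_one_or (ε a) with h | h
      · rw [h, Pi.mulSingle_one]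
        exact one_mem _
      · rw [h]
        exact h1 a
    rw [Finset.univ_prod_mulSingle] at h2
    exact h2
  rw [eq_top_iff]
  intro g _
  rw [← SemidirectProduct.inl_left_mul_inr_right g]
  exact mul_mem (hl _) (hr _)

/-- **The Coxeter group of type `B_n` is the group of signed permutations.** -/
noncomputable def isoB : W ≃* Wb (Fin n) := MulEquiv.ofBijective (homB cs) ⟨homB_injective cs, homB_surjective cs⟩

theorem isoB_simple (i : Fin n) : isoB cs (cs.simple i) = gen i := homB_simple cs i

theorem isoB_simple_lt {i : Fin n} (h : (i : ℕ) + 1 < n) :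
    isoB cs (cs.simple i) = SemidirectProduct.inr (Equiv.swap i ⟨i + 1, h⟩) := by rw [isoB_simple, gen_lt h]

/-- **`|φ(w)| ≤ 1` in the Coxeter group of type `B_n`** -/
theorem coxB {φ : W → ℂ} (hφ : IsIrrCharacter W φ) {w : Equiv.Perm (Fin n)} (hw : SI (tp w)) :
    φ ((isoB cs).symm (SemidirectProduct.inr w)) = 0 ∨ φ ((isoB cs).symm (SemidirectProduct.inr w)) = 1 ∨
      φ ((isoB cs).symm (SemidirectProduct.inr w)) = -1 :=
  signed (Characters.Core.isIrr_comp (isoB cs).symm.toMonoidHom (isoB cs).symm.surjective hφ) hw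

end Iso

end Cfsg.Agent.H215.WB
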