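import Cfsg.Agent.H614.Chars

/-!
# Symmetric groups: elements whose cycle lengths are superincreasing

`SI s` : the multiset `s` can be listed as `k₁, k₂, …` with `kᵢ > kᵢ₊₁ + kᵢ₊₂ + …` (for example distinct powers of `2`).
If the cycle lengths of `w` (with the fixed points) are superincreasing, `φ(w) ∈ {0, 1, -1}` for every irreducible
character `φ`.
-/

set_option autoImplicit false

namespace Cfsg.Agent.H215.WB

open Finset Cfsg Cfsg.Agent.H614

universe u

variable {m : ℕ}

/-- superincreasing multisets -/
inductive SI : Multiset ℕ → Prop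
  | zero : SI 0
  | cons (k : ℕ) (s : Multiset ℕ) (h : SI s) (hk : s.sum < k) : SI (k ::ₘ s)

theorem abs_vac_le (β : Fin m → ℕ) : |vac β| ≤ 1 := by
  unfold vac
  by_cases h : ∃ σ : Equiv.Perm (Fin m), β = fun i => ((σ i : Fin m) : ℕ)
  · obtain ⟨σ, hσ⟩ := h
    rw [Finset.sum_eq_single σ]
    · rw [if_pos hσ]
      rcases Int.units_eq_one_or (Equiv.Perm.sign σ) with h | h <;> simp [sg, h]
    · intro τ _ hτ
      rw [if_neg]
      intro h
      apply hτ
      ext i
      exact congrFun (h.symm.trans hσ) i
    · intro h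
      exact absurd (Finset.mem_univ σ) h
  · rw [Finset.sum_eq_zero]
    · simp
    · intro σ _
      rw [if_neg]
      exact fun h' => h ⟨σ, h'⟩

theorem sum_dn' (β : Fin m → ℕ) {j : Fin m} {k : ℕ} (h : k ≤ β j) : ∑ i, dn β j k i + k = ∑ i, β i := by
  rw [← Finset.add_sum_erase _ _ (Finset.mem_univ j), ← Finset.add_sum_erase Finset.univ β (Finset.mem_univ j), dn_self,
    Finset.sum_congr rfl fun i hi => dn_ne β k (Finset.ne_of_mem_erase hi)]
  omega

/-- at most one hook of length `k > n / 2` -/
theorem hook_unique {β : Fin m → ℕ} (hβ : Function.Injective β) {n k : ℕ} (hs : ∑ i, β i = n + ∑ i : Fin m, (i : ℕ))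
    (hk : n < 2 * k) {i j : Fin m} (hi : k ≤ β i) (hi' : Function.Injective (dn β i k)) (hj : k ≤ β j)
    (hj' : Function.Injective (dn β j k)) : i = j := by
  by_contra hne
  have h1 : k ≤ dn β i k j := by rwa [dn_ne _ _ (Ne.symm hne)]
  have h2 : Function.Injective (dn (dn β i k) j k) := by
    intro a b hab
    by_cases ha : a = j
    · by_cases hb : b = j
      · rw [ha, hb]
      · exfalso
        subst ha
        rw [dn_self, dn_ne _ _ hb, dn_ne _ _ (Ne.symm hne)] at hab
        by_cases hbi : b = i
        · subst hbi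
          rw [dn_self] at hab
          exact hne (hβ (by omega))
        · rw [dn_ne _ _ hbi] at hab
          apply hb
          apply hj'
          rw [dn_ne _ _ hb, dn_self]
          exact hab.symm
    · by_cases hb : b = j
      · exfalso
        subst hb
        rw [dn_self, dn_ne _ _ ha, dn_ne _ _ (Ne.symm hne)] at hab
        by_cases hai : a = i
        · subst hai
          rw [dn_self] at hab
          exact hne (hβ (by omega))
        · rw [dn_ne _ _ hai] at hab
          apply ha
          apply hj'
          rw [dn_ne _ _ ha, dn_self]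
          exact hab
      · rw [dn_ne _ _ ha, dn_ne _ _ hb] at hab
        exact hi' hab
  have h3 := sum_le_of_injective h2
  have h4 := sum_dn' _ h1
  have h5 := sum_dn' _ hi
  omega

theorem abs_FM_le {s : Multiset ℕ} (hs : SI s) : ∀ β : Fin m → ℕ, ∑ i, β i = s.sum + ∑ i : Fin m, (i : ℕ) →
    |FM s β| ≤ 1 := by
  induction hs with
  | zero => intro β _; rw [FM_zero]; exact abs_vac_le β
  | cons k s _ hk ih =>
    intro β hβ
    by_cases hinj : Function.Injective β
    · rw [Multiset.sum_cons] at hβ
      rw [FM_cons]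
      have hz : ∀ j, ¬ (k ≤ β j ∧ Function.Injective (dn β j k)) → (if k ≤ β j then FM s (dn β j k) else 0) = 0 := by
        intro j hj
        by_cases h1 : k ≤ β j
        · rw [if_pos h1]
          exact (FM_alt s).eq_zero_of_not_injective two_torsion_int fun h2 => hj ⟨h1, h2⟩
        · rw [if_neg h1]
      by_cases h : ∃ j, k ≤ β j ∧ Function.Injective (dn β j k)
      · obtain ⟨j, hj1, hj2⟩ := h
        rw [Finset.sum_eq_single j]
        · rw [if_pos hj1]
          refine ih _ ?_
          have h4 := sum_dn' _ hj1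
          omega
        · intro i _ hij
          refine hz i ?_
          rintro ⟨hi1, hi2⟩
          exact hij (hook_unique hinj hβ (by omega) hi1 hi2 hj1 hj2)
        · intro h
          exact absurd (Finset.mem_univ j) h
      · rw [Finset.sum_eq_zero]
        · simp
        · intro j _
          exact hz j fun hj => h ⟨j, hj⟩
    · rw [(FM_alt _).eq_zero_of_not_injective two_torsion_int hinj]
      simp

/-- **`|φ(w)| ≤ 1`** -/
theorem sym {α : Type u} [Fintype α] [DecidableEq α] {χ : Equiv.Perm α → ℂ} (hχ : IsIrrCharacter (Equiv.Perm α) χ)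
    {w : Equiv.Perm α} (hw : SI w.partition.parts) : χ w = 0 ∨ χ w = 1 ∨ χ w = -1 := by
  obtain ⟨β, -, h2, rfl⟩ := irr_eq (m := Fintype.card α) le_rfl hχ
  rw [ch_apply]
  have h3 : |FM (ty w) β| ≤ 1 := by
    refine abs_FM_le hw β ?_
    rw [h2, w.partition.parts_sum]
  rw [abs_le] at h3
  have h4 : FM (ty w) β = 0 ∨ FM (ty w) β = 1 ∨ FM (ty w) β = -1 := by omega
  rcases h4 with h | h | h
  · exact Or.inl (by rw [h]; norm_num)
  · exact Or.inr (Or.inl (by rw [h]; norm_num))
  · exact Or.inr (Or.inr (by rw [h]; norm_num))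

end Cfsg.Agent.H215.WB
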